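import Cfsg.Agent.Lib.H35.TCM12A.Data
import Cfsg.Agent.Lib.H35.TC
set_option autoImplicit false
set_option maxRecDepth 100000
set_option linter.all false
namespace H35.TCM12A
open H35.TC
/-- letters -/
inductive Lt | b | bi | d | di | e | ei | f | fi
  deriving DecidableEq
/-- inverse letter -/
def inv : Lt → Lt
  | .b => .bi
  | .bi => .b
  | .d => .di
  | .di => .d
  | .e => .ei
  | .ei => .e
  | .f => .fi
  | .fi => .f
/-- table functions -/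
noncomputable def T : Lt → ℕ → ℕ
  | .b => T_b
  | .bi => T_bi
  | .d => T_d
  | .di => T_di
  | .e => T_e
  | .ei => T_ei
  | .f => T_f
  | .fi => T_fi
/-- decoding of letter codes -/
def lt : ℕ → Lt
  | 0 => .b
  | 1 => .bi
  | 2 => .d
  | 3 => .di
  | 4 => .e
  | 5 => .ei
  | 6 => .f
  | _ => .fi
/-- Coxeter matrix (0: no relation) -/
def mm : Lt → Lt → ℕ
  | _, _ => 0
/-- extra relators `w ^ n` -/
def extra : List (List Lt × ℕ) := [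
  ([.f, .di, .f, .d, .fi, .d], 1),
  ([.d, .bi, .di, .b, .b, .b], 1),
  ([.f, .d, .bi, .fi, .d, .b, .b], 1),
  ([.fi, .e, .fi, .fi, .ei, .f, .d], 1),
  ([.d, .d, .b, .di, .di, .b, .b], 1),
  ([.bi, .e, .di, .ei, .b, .d, .d], 1),
  ([.b, .bi], 1),
  ([.bi, .b], 1),
  ([.d, .di], 1),
  ([.di, .d], 1),
  ([.e, .ei], 1),
  ([.ei, .e], 1),
  ([.f, .fi], 1),
  ([.fi, .f], 1)]
/-- relators -/
def rels : List (List Lt) := mkRels [] mm extra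
/-- subgroup words -/
def subs : List (List Lt) := [
  [.b],
  [.d],
  [.e]]
noncomputable def dp_b_0 (j u : ℕ) : Bool :=
  Bool.rec (motive := fun _ => Bool) (lF [T_b, T_f, T_d, T_bi, T_fi, T_d] M (Nat.sub (T_b u) (Nat.mod (T_b u) M)) (Nat.mod (T_b u) M) u) (lH [] [] M (Nat.sub (T_b u) (Nat.mod (T_b u) M)) (Nat.mod (T_b u) M) u) (Nat.ble (nat_lit 6) j)
noncomputable def dp_b_1 (j u : ℕ) : Bool :=
  Bool.rec (motive := fun _ => Bool) (lF [T_b, T_d, T_d, T_b, T_di, T_di] M (Nat.sub (T_b u) (Nat.mod (T_b u) M)) (Nat.mod (T_b u) M) u) (lF [T_di, T_fi, T_bi, T_bi, T_di, T_f] M (Nat.sub (T_b u) (Nat.mod (T_b u) M)) (Nat.mod (T_b u) M) u) (Nat.ble (nat_lit 8) j)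
noncomputable def dp_b_2 (j u : ℕ) : Bool :=
  Bool.rec (motive := fun _ => Bool) (lS MG [T_b, T_b, T_d, T_bi, T_di] M (Nat.sub (T_b u) (Nat.mod (T_b u) M)) (nat_lit 40) (Nat.mod (T_b u) M) u) (lF [T_d, T_bi, T_di, T_b, T_b] M (Nat.sub (T_b u) (Nat.mod (T_b u) M)) (Nat.mod (T_b u) M) u) (Nat.ble (nat_lit 10) j)
noncomputable def disp_b (j u : ℕ) : Bool :=
  Bool.rec (motive := fun _ => Bool) (Bool.rec (motive := fun _ => Bool) (lDef P (nat_lit 0) (Nat.mod (T_b u) M) u) (Bool.rec (motive := fun _ => Bool) (lDef P (nat_lit 1) u (Nat.mod (T_b u) M)) (lF [T_b, T_b, T_d, T_bi, T_di] M (Nat.sub (T_b u) (Nat.mod (T_b u) M)) (Nat.mod (T_b u) M) u) (Nat.ble (nat_lit 2) j)) (Nat.ble (nat_lit 1) j)) (Bool.rec (motive := fun _ => Bool) (Bool.rec (motive := fun _ => Bool) (lF1 T_bi M (Nat.sub (T_b u) (Nat.mod (T_b u) M)) (Nat.mod (T_b u) M) u) (lS MG [T_bi] M (Nat.sub (T_b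 u) (Nat.mod (T_b u) M)) (nat_lit 40) (Nat.mod (T_b u) M) u) (Nat.ble (nat_lit 4) j)) (Bool.rec (motive := fun _ => Bool) (dp_b_0 j u) (Bool.rec (motive := fun _ => Bool) (dp_b_1 j u) (dp_b_2 j u) (Nat.ble (nat_lit 9) j)) (Nat.ble (nat_lit 7) j)) (Nat.ble (nat_lit 5) j)) (Nat.ble (nat_lit 3) j)
noncomputable def chk_b (j u : ℕ) : Bool :=
  Bool.rec (motive := fun _ => Bool) (disp_b j u) (Nat.ble (Nat.succ (MG u)) A) (Nat.ble A (T_b u))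
noncomputable def dp_bi_0 (j u : ℕ) : Bool :=
  Bool.rec (motive := fun _ => Bool) (lF [T_bi, T_bi, T_d, T_b, T_di] M (Nat.sub (T_bi u) (Nat.mod (T_bi u) M)) (Nat.mod (T_bi u) M) u) (lF [T_bi, T_d, T_b, T_di, T_bi] M (Nat.sub (T_bi u) (Nat.mod (T_bi u) M)) (Nat.mod (T_bi u) M) u) (Nat.ble (nat_lit 7) j)
noncomputable def dp_bi_1 (j u : ℕ) : Bool :=
  Bool.rec (motive := fun _ => Bool) (lF [T_di, T_f, T_b, T_di, T_fi, T_bi] M (Nat.sub (T_bi u) (Nat.mod (T_bi u) M)) (Nat.mod (T_bi u) M) u) (dp_bi_0 j u) (Nat.ble (nat_lit 6) j)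
noncomputable def disp_bi (j u : ℕ) : Bool :=
  Bool.rec (motive := fun _ => Bool) (Bool.rec (motive := fun _ => Bool) (lF1 T_b M (Nat.sub (T_bi u) (Nat.mod (T_bi u) M)) (Nat.mod (T_bi u) M) u) (lDef P (nat_lit 1) (Nat.mod (T_bi u) M) u) (Nat.ble (nat_lit 1) j)) (Bool.rec (motive := fun _ => Bool) (lDef P (nat_lit 0) u (Nat.mod (T_bi u) M)) (Bool.rec (motive := fun _ => Bool) (lS MG [T_b] M (Nat.sub (T_bi u) (Nat.mod (T_bi u) M)) (nat_lit 40) (Nat.mod (T_bi u) M) u) (Bool.rec (motive := fun _ => Bool) (lF [T_di, T_b, T_b, T_b, T_d] M (Nat.sub (T_bi u) (Nat.mod (T_bi u) M)) (Nat.mod (T_bi u) M) u) (dp_bi_1 j u) (Nat.ble (nat_lit 5) j)) (Nat.ble (nat_lit 4) j)) (Nat.ble (nat_lit 3) j)) (Nat.ble (nat_lit 2) j)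
noncomputable def chk_bi (j u : ℕ) : Bool :=
  Bool.rec (motive := fun _ => Bool) (disp_bi j u) (Nat.ble (Nat.succ (MG u)) A) (Nat.ble A (T_bi u))
noncomputable def dp_d_0 (j u : ℕ) : Bool :=
  Bool.rec (motive := fun _ => Bool) (lH [] [] M (Nat.sub (T_d u) (Nat.mod (T_d u) M)) (Nat.mod (T_d u) M) u) (lF [T_bi, T_fi, T_d, T_b, T_b, T_f] M (Nat.sub (T_d u) (Nat.mod (T_d u) M)) (Nat.mod (T_d u) M) u) (Nat.ble (nat_lit 8) j)
noncomputable def dp_d_1 (j u : ℕ) : Bool :=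
  Bool.rec (motive := fun _ => Bool) (lF [T_d, T_b, T_di, T_di, T_b, T_b] M (Nat.sub (T_d u) (Nat.mod (T_d u) M)) (Nat.mod (T_d u) M) u) (lS MG [T_f, T_di, T_f, T_d, T_fi] M (Nat.sub (T_d u) (Nat.mod (T_d u) M)) (nat_lit 40) (Nat.mod (T_d u) M) u) (Nat.ble (nat_lit 10) j)
noncomputable def dp_d_2 (j u : ℕ) : Bool :=
  Bool.rec (motive := fun _ => Bool) (lF [T_b, T_di, T_di, T_b, T_b, T_d] M (Nat.sub (T_d u) (Nat.mod (T_d u) M)) (Nat.mod (T_d u) M) u) (lS MG [T_fi, T_d, T_f, T_di, T_f] M (Nat.sub (T_d u) (Nat.mod (T_d u) M)) (nat_lit 40) (Nat.mod (T_d u) M) u) (Nat.ble (nat_lit 12) j)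
noncomputable def disp_d (j u : ℕ) : Bool :=
  Bool.rec (motive := fun _ => Bool) (Bool.rec (motive := fun _ => Bool) (lF1 T_di M (Nat.sub (T_d u) (Nat.mod (T_d u) M)) (Nat.mod (T_d u) M) u) (Bool.rec (motive := fun _ => Bool) (lDef P (nat_lit 2) (Nat.mod (T_d u) M) u) (lDef P (nat_lit 3) u (Nat.mod (T_d u) M)) (Nat.ble (nat_lit 2) j)) (Nat.ble (nat_lit 1) j)) (Bool.rec (motive := fun _ => Bool) (Bool.rec (motive := fun _ => Bool) (lS MG [T_di] M (Nat.sub (T_d u) (Nat.mod (T_d u) M)) (nat_lit 40) (Nat.mod (T_d u) M) u) (Bool.rec (motive := fun _ => Bool) (lF [T_bi, T_di, T_di, T_bi, T_bi, T_d] M (Nat.sub (T_d u) (Nat.mod (T_d u) M)) (Nat.mod (T_d u) M) u) (lF [T_fi, T_d, T_f, T_di, T_f] M (Nat.sub (T_d u) (Nat.mod (T_d u) M)) (Nat.mod (T_d u) M) u) (Nat.ble (nat_lit 5) j)) (Nat.ble (nat_lit 4) j)) (Bool.rec (motive := fun _ => Bool) (Bool.rec (motive := fun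 _ => Bool) (lF [T_b, T_di, T_bi, T_bi, T_bi] M (Nat.sub (T_d u) (Nat.mod (T_d u) M)) (Nat.mod (T_d u) M) u) (dp_d_0 j u) (Nat.ble (nat_lit 7) j)) (Bool.rec (motive := fun _ => Bool) (dp_d_1 j u) (dp_d_2 j u) (Nat.ble (nat_lit 11) j)) (Nat.ble (nat_lit 9) j)) (Nat.ble (nat_lit 6) j)) (Nat.ble (nat_lit 3) j)
noncomputable def chk_d (j u : ℕ) : Bool :=
  Bool.rec (motive := fun _ => Bool) (disp_d j u) (Nat.ble (Nat.succ (MG u)) A) (Nat.ble A (T_d u))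
noncomputable def dp_di_0 (j u : ℕ) : Bool :=
  Bool.rec (motive := fun _ => Bool) (lF [T_f, T_di, T_fi, T_d, T_fi] M (Nat.sub (T_di u) (Nat.mod (T_di u) M)) (Nat.mod (T_di u) M) u) (lS MG [T_f, T_d, T_fi, T_d, T_f] M (Nat.sub (T_di u) (Nat.mod (T_di u) M)) (nat_lit 40) (Nat.mod (T_di u) M) u) (Nat.ble (nat_lit 6) j)
noncomputable def dp_di_1 (j u : ℕ) : Bool :=
  Bool.rec (motive := fun _ => Bool) (lF [T_f, T_d, T_fi, T_d, T_f] M (Nat.sub (T_di u) (Nat.mod (T_di u) M)) (Nat.mod (T_di u) M) u) (dp_di_0 j u) (Nat.ble (nat_lit 5) j)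
noncomputable def dp_di_2 (j u : ℕ) : Bool :=
  Bool.rec (motive := fun _ => Bool) (lF [T_bi, T_bi, T_bi, T_d, T_b] M (Nat.sub (T_di u) (Nat.mod (T_di u) M)) (Nat.mod (T_di u) M) u) (lF [T_ei, T_b, T_d, T_d, T_bi, T_e] M (Nat.sub (T_di u) (Nat.mod (T_di u) M)) (Nat.mod (T_di u) M) u) (Nat.ble (nat_lit 8) j)
noncomputable def dp_di_3 (j u : ℕ) : Bool :=
  Bool.rec (motive := fun _ => Bool) (lF [T_b, T_b, T_b, T_d, T_bi] M (Nat.sub (T_di u) (Nat.mod (T_di u) M)) (Nat.mod (T_di u) M) u) (lF [T_fi, T_d, T_fi, T_di, T_f] M (Nat.sub (T_di u) (Nat.mod (T_di u) M)) (Nat.mod (T_di u) M) u) (Nat.ble (nat_lit 10) j)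
noncomputable def dp_di_4 (j u : ℕ) : Bool :=
  Bool.rec (motive := fun _ => Bool) (dp_di_2 j u) (dp_di_3 j u) (Nat.ble (nat_lit 9) j)
noncomputable def disp_di (j u : ℕ) : Bool :=
  Bool.rec (motive := fun _ => Bool) (Bool.rec (motive := fun _ => Bool) (lF1 T_d M (Nat.sub (T_di u) (Nat.mod (T_di u) M)) (Nat.mod (T_di u) M) u) (lS MG [T_d] M (Nat.sub (T_di u) (Nat.mod (T_di u) M)) (nat_lit 40) (Nat.mod (T_di u) M) u) (Nat.ble (nat_lit 1) j)) (Bool.rec (motive := fun _ => Bool) (Bool.rec (motive := fun _ => Bool) (lDef P (nat_lit 3) (Nat.mod (T_di u) M) u) (lDef P (nat_lit 2) u (Nat.mod (T_di u) M)) (Nat.ble (nat_lit 3) j)) (Bool.rec (motive := fun _ => Bool) (dp_di_1 j u) (dp_di_4 j u) (Nat.ble (nat_lit 7) j)) (Nat.ble (nat_lit 4) j)) (Nat.ble (nat_lit 2) j)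
noncomputable def chk_di (j u : ℕ) : Bool :=
  Bool.rec (motive := fun _ => Bool) (disp_di j u) (Nat.ble (Nat.succ (MG u)) A) (Nat.ble A (T_di u))
noncomputable def dp_e_0 (j u : ℕ) : Bool :=
  Bool.rec (motive := fun _ => Bool) (lS MG [T_d, T_ei, T_b, T_di, T_di, T_bi] M (Nat.sub (T_e u) (Nat.mod (T_e u) M)) (nat_lit 40) (Nat.mod (T_e u) M) u) (lS MG [T_fi, T_fi, T_ei, T_f, T_d, T_fi] M (Nat.sub (T_e u) (Nat.mod (T_e u) M)) (nat_lit 40) (Nat.mod (T_e u) M) u) (Nat.ble (nat_lit 6) j)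
noncomputable def dp_e_1 (j u : ℕ) : Bool :=
  Bool.rec (motive := fun _ => Bool) (lH [] [] M (Nat.sub (T_e u) (Nat.mod (T_e u) M)) (Nat.mod (T_e u) M) u) (dp_e_0 j u) (Nat.ble (nat_lit 5) j)
noncomputable def dp_e_2 (j u : ℕ) : Bool :=
  Bool.rec (motive := fun _ => Bool) (lF [T_di, T_ei, T_b, T_d, T_d, T_bi] M (Nat.sub (T_e u) (Nat.mod (T_e u) M)) (Nat.mod (T_e u) M) u) (lF [T_d, T_ei, T_b, T_di, T_di, T_bi] M (Nat.sub (T_e u) (Nat.mod (T_e u) M)) (Nat.mod (T_e u) M) u) (Nat.ble (nat_lit 8) j)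
noncomputable def dp_e_3 (j u : ℕ) : Bool :=
  Bool.rec (motive := fun _ => Bool) (lS MG [T_f, T_f, T_ei, T_f, T_di, T_fi] M (Nat.sub (T_e u) (Nat.mod (T_e u) M)) (nat_lit 40) (Nat.mod (T_e u) M) u) (lF [T_f, T_f, T_ei, T_f, T_di, T_fi] M (Nat.sub (T_e u) (Nat.mod (T_e u) M)) (Nat.mod (T_e u) M) u) (Nat.ble (nat_lit 10) j)
noncomputable def disp_e (j u : ℕ) : Bool :=
  Bool.rec (motive := fun _ => Bool) (Bool.rec (motive := fun _ => Bool) (lF1 T_ei M (Nat.sub (T_e u) (Nat.mod (T_e u) M)) (Nat.mod (T_e u) M) u) (lDef P (nat_lit 4) (Nat.mod (T_e u) M) u) (Nat.ble (nat_lit 1) j)) (Bool.rec (motive := fun _ => Bool) (Bool.rec (motive := fun _ => Bool) (lDef P (nat_lit 5) u (Nat.mod (T_e u) M)) (lS MG [T_ei] M (Nat.sub (T_e u) (Nat.mod (T_e u) M)) (nat_lit 40) (Nat.mod (T_e u) M) u) (Nat.ble (nat_lit 3) j)) (Bool.rec (motive := fun _ => Bool) (dp_e_1 j u) (Bool.rec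 (motive := fun _ => Bool) (dp_e_2 j u) (dp_e_3 j u) (Nat.ble (nat_lit 9) j)) (Nat.ble (nat_lit 7) j)) (Nat.ble (nat_lit 4) j)) (Nat.ble (nat_lit 2) j)
noncomputable def chk_e (j u : ℕ) : Bool :=
  Bool.rec (motive := fun _ => Bool) (disp_e j u) (Nat.ble (Nat.succ (MG u)) A) (Nat.ble A (T_e u))
noncomputable def dp_ei_0 (j u : ℕ) : Bool :=
  Bool.rec (motive := fun _ => Bool) (lS MG [T_e] M (Nat.sub (T_ei u) (Nat.mod (T_ei u) M)) (nat_lit 40) (Nat.mod (T_ei u) M) u) (lF [T_f, T_d, T_fi, T_e, T_fi, T_fi] M (Nat.sub (T_ei u) (Nat.mod (T_ei u) M)) (Nat.mod (T_ei u) M) u) (Nat.ble (nat_lit 7) j)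
noncomputable def disp_ei (j u : ℕ) : Bool :=
  Bool.rec (motive := fun _ => Bool) (Bool.rec (motive := fun _ => Bool) (lF1 T_e M (Nat.sub (T_ei u) (Nat.mod (T_ei u) M)) (Nat.mod (T_ei u) M) u) (lDef P (nat_lit 5) (Nat.mod (T_ei u) M) u) (Nat.ble (nat_lit 1) j)) (Bool.rec (motive := fun _ => Bool) (lDef P (nat_lit 4) u (Nat.mod (T_ei u) M)) (Bool.rec (motive := fun _ => Bool) (Bool.rec (motive := fun _ => Bool) (lS MG [T_b, T_di, T_di, T_bi, T_e, T_d] M (Nat.sub (T_ei u) (Nat.mod (T_ei u) M)) (nat_lit 40) (Nat.mod (T_ei u) M) u) (lF [T_f, T_di, T_fi, T_e, T_f, T_f] M (Nat.sub (T_ei u) (Nat.mod (T_ei u) M)) (Nat.mod (T_ei u) M) u) (Nat.ble (nat_lit 4) j)) (Bool.rec (motive := fun _ => Bool) (lS MG [T_f, T_d, T_fi, T_e, T_fi, T_fi] M (Nat.sub (T_ei u) (Nat.mod (T_ei u) M)) (nat_lit 40) (Nat.mod (T_ei u) M) u) (dp_ei_0 j u) (Nat.ble (nat_lit 6) j)) (Nat.ble (nat_lit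 5) j)) (Nat.ble (nat_lit 3) j)) (Nat.ble (nat_lit 2) j)
noncomputable def chk_ei (j u : ℕ) : Bool :=
  Bool.rec (motive := fun _ => Bool) (disp_ei j u) (Nat.ble (Nat.succ (MG u)) A) (Nat.ble A (T_ei u))
noncomputable def dp_f_0 (j u : ℕ) : Bool :=
  Bool.rec (motive := fun _ => Bool) (lF [T_di, T_f, T_d, T_fi, T_d] M (Nat.sub (T_f u) (Nat.mod (T_f u) M)) (Nat.mod (T_f u) M) u) (lF [T_d, T_bi, T_fi, T_d, T_b, T_b] M (Nat.sub (T_f u) (Nat.mod (T_f u) M)) (Nat.mod (T_f u) M) u) (Nat.ble (nat_lit 6) j)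
noncomputable def disp_f (j u : ℕ) : Bool :=
  Bool.rec (motive := fun _ => Bool) (Bool.rec (motive := fun _ => Bool) (lF1 T_fi M (Nat.sub (T_f u) (Nat.mod (T_f u) M)) (Nat.mod (T_f u) M) u) (lDef P (nat_lit 6) (Nat.mod (T_f u) M) u) (Nat.ble (nat_lit 1) j)) (Bool.rec (motive := fun _ => Bool) (Bool.rec (motive := fun _ => Bool) (lDef P (nat_lit 7) u (Nat.mod (T_f u) M)) (lF [T_d, T_fi, T_d, T_f, T_di] M (Nat.sub (T_f u) (Nat.mod (T_f u) M)) (Nat.mod (T_f u) M) u) (Nat.ble (nat_lit 3) j)) (Bool.rec (motive := fun _ => Bool) (lS MG [T_fi] M (Nat.sub (T_f u) (Nat.mod (T_f u) M)) (nat_lit 40) (Nat.mod (T_f u) M) u) (dp_f_0 j u) (Nat.ble (nat_lit 5) j)) (Nat.ble (nat_lit 4) j)) (Nat.ble (nat_lit 2) j)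
noncomputable def chk_f (j u : ℕ) : Bool :=
  Bool.rec (motive := fun _ => Bool) (disp_f j u) (Nat.ble (Nat.succ (MG u)) A) (Nat.ble A (T_f u))
noncomputable def dp_fi_0 (j u : ℕ) : Bool :=
  Bool.rec (motive := fun _ => Bool) (lF [T_d, T_b, T_b, T_f, T_d, T_bi] M (Nat.sub (T_fi u) (Nat.mod (T_fi u) M)) (Nat.mod (T_fi u) M) u) (lF [T_di, T_f, T_di, T_fi, T_d] M (Nat.sub (T_fi u) (Nat.mod (T_fi u) M)) (Nat.mod (T_fi u) M) u) (Nat.ble (nat_lit 7) j)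
noncomputable def dp_fi_1 (j u : ℕ) : Bool :=
  Bool.rec (motive := fun _ => Bool) (lF [T_d, T_f, T_di, T_f, T_d] M (Nat.sub (T_fi u) (Nat.mod (T_fi u) M)) (Nat.mod (T_fi u) M) u) (dp_fi_0 j u) (Nat.ble (nat_lit 6) j)
noncomputable def dp_fi_2 (j u : ℕ) : Bool :=
  Bool.rec (motive := fun _ => Bool) (lS MG [T_d, T_fi, T_di, T_f, T_di] M (Nat.sub (T_fi u) (Nat.mod (T_fi u) M)) (nat_lit 40) (Nat.mod (T_fi u) M) u) (lS MG [T_d, T_f, T_di, T_f, T_d] M (Nat.sub (T_fi u) (Nat.mod (T_fi u) M)) (nat_lit 40) (Nat.mod (T_fi u) M) u) (Nat.ble (nat_lit 9) j)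
noncomputable def dp_fi_3 (j u : ℕ) : Bool :=
  Bool.rec (motive := fun _ => Bool) (lF [T_fi, T_ei, T_f, T_d, T_fi, T_e] M (Nat.sub (T_fi u) (Nat.mod (T_fi u) M)) (Nat.mod (T_fi u) M) u) (lF [T_d, T_fi, T_di, T_f, T_di] M (Nat.sub (T_fi u) (Nat.mod (T_fi u) M)) (Nat.mod (T_fi u) M) u) (Nat.ble (nat_lit 11) j)
noncomputable def dp_fi_4 (j u : ℕ) : Bool :=
  Bool.rec (motive := fun _ => Bool) (Bool.rec (motive := fun _ => Bool) (lS MG [T_f] M (Nat.sub (T_fi u) (Nat.mod (T_fi u) M)) (nat_lit 40) (Nat.mod (T_fi u) M) u) (lF [T_bi, T_bi, T_di, T_f, T_b, T_di] M (Nat.sub (T_fi u) (Nat.mod (T_fi u) M)) (Nat.mod (T_fi u) M) u) (Nat.ble (nat_lit 4) j)) (Bool.rec (motive := fun _ => Bool) (dp_fi_1 j u) (Bool.rec (motive := fun _ => Bool) (dp_fi_2 j u) (dp_fi_3 j u) (Nat.ble (nat_lit 10) j)) (Nat.ble (nat_lit 8) j)) (Nat.ble (nat_lit 5) j)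
noncomputable def disp_fi (j u : ℕ) : Bool :=
  Bool.rec (motive := fun _ => Bool) (Bool.rec (motive := fun _ => Bool) (lDef P (nat_lit 6) u (Nat.mod (T_fi u) M)) (Bool.rec (motive := fun _ => Bool) (lF1 T_f M (Nat.sub (T_fi u) (Nat.mod (T_fi u) M)) (Nat.mod (T_fi u) M) u) (lDef P (nat_lit 7) (Nat.mod (T_fi u) M) u) (Nat.ble (nat_lit 2) j)) (Nat.ble (nat_lit 1) j)) (dp_fi_4 j u) (Nat.ble (nat_lit 3) j)
noncomputable def chk_fi (j u : ℕ) : Bool :=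
  Bool.rec (motive := fun _ => Bool) (disp_fi j u) (Nat.ble (Nat.succ (MG u)) A) (Nat.ble A (T_fi u))
noncomputable def dM_0 (j z1 z2 u : ℕ) : Bool :=
  Bool.rec (motive := fun _ => Bool) (Bool.rec (motive := fun _ => Bool) (mCo MG T_di M (Nat.sub (MG u) (Nat.mod (MG u) M)) (nat_lit 40) z1 z2 u (Nat.mod (MG u) M)) (mCo MG T_ei M (Nat.sub (MG u) (Nat.mod (MG u) M)) (nat_lit 40) z1 z2 u (Nat.mod (MG u) M)) (Nat.ble (nat_lit 1) j)) (Bool.rec (motive := fun _ => Bool) (mCo MG T_fi M (Nat.sub (MG u) (Nat.mod (MG u) M)) (nat_lit 40) z1 z2 u (Nat.mod (MG u) M)) (Bool.rec (motive := fun _ => Bool) (mCo MG T_b M (Nat.sub (MG u) (Nat.mod (MG u) M)) (nat_lit 40) z1 z2 u (Nat.mod (MG u) M)) (mCo MG T_bi M (Nat.sub (MG u) (Nat.mod (MG u) M)) (nat_lit 40) z1 z2 u (Nat.mod (MG u) M)) (Nat.ble (nat_lit 4) j)) (Nat.ble (nat_lit 3) j)) (Nat.ble (nat_lit 2) j)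
noncomputable def dM_1 (j z1 z2 u : ℕ) : Bool :=
  Bool.rec (motive := fun _ => Bool) (Bool.rec (motive := fun _ => Bool) (Bool.rec (motive := fun _ => Bool) (mRel MG [T_ei, T_b, T_d, T_d, T_bi, T_e] [T_d] M (Nat.sub (MG u) (Nat.mod (MG u) M)) (nat_lit 40) z1 u (Nat.mod (MG u) M)) (mRel MG [T_ei] [T_fi, T_fi, T_ei, T_f, T_d, T_fi] M (Nat.sub (MG u) (Nat.mod (MG u) M)) (nat_lit 40) z1 u (Nat.mod (MG u) M)) (Nat.ble (nat_lit 6) j)) (Bool.rec (motive := fun _ => Bool) (mRel MG [T_e] [T_f, T_di, T_fi, T_e, T_f, T_f] M (Nat.sub (MG u) (Nat.mod (MG u) M)) (nat_lit 40) z1 u (Nat.mod (MG u) M)) (Bool.rec (motive := fun _ => Bool) (mCo MG T_e M (Nat.sub (MG u) (Nat.mod (MG u) M)) (nat_lit 40) z1 z2 u (Nat.mod (MG u) M)) (mRel MG [T_d, T_bi, T_e, T_di, T_ei] [T_di, T_bi] M (Nat.sub (MG u) (Nat.mod (MG u) M)) (nat_lit 40) z1 u (Nat.mod (MG u) M)) (Nat.ble (nat_lit 9) j))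 (Nat.ble (nat_lit 8) j)) (Nat.ble (nat_lit 7) j)) (Bool.rec (motive := fun _ => Bool) (Bool.rec (motive := fun _ => Bool) (mCo MG T_d M (Nat.sub (MG u) (Nat.mod (MG u) M)) (nat_lit 40) z1 z2 u (Nat.mod (MG u) M)) (Bool.rec (motive := fun _ => Bool) (mRel MG [T_d, T_ei, T_b, T_di, T_di, T_bi] [T_ei] M (Nat.sub (MG u) (Nat.mod (MG u) M)) (nat_lit 40) z1 u (Nat.mod (MG u) M)) (mRel MG [T_e, T_f, T_f, T_ei, T_f] [T_f, T_d] M (Nat.sub (MG u) (Nat.mod (MG u) M)) (nat_lit 40) z1 u (Nat.mod (MG u) M)) (Nat.ble (nat_lit 12) j)) (Nat.ble (nat_lit 11) j)) (Bool.rec (motive := fun _ => Bool) (mRel MG [T_e, T_di] [T_b, T_di, T_di, T_bi, T_e] M (Nat.sub (MG u) (Nat.mod (MG u) M)) (nat_lit 40) z1 u (Nat.mod (MG u) M)) (Bool.rec (motive := fun _ => Bool) (mRel MG [T_di, T_f, T_di, T_fi, T_d, T_fi] [] M (Nat.sub (MG u) (Nat.mod (MG u) M)) (nat_lit 40) z1 u (Nat.mod (MG u) M))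 (mCo MG T_f M (Nat.sub (MG u) (Nat.mod (MG u) M)) (nat_lit 40) z1 z2 u (Nat.mod (MG u) M)) (Nat.ble (nat_lit 15) j)) (Nat.ble (nat_lit 14) j)) (Nat.ble (nat_lit 13) j)) (Nat.ble (nat_lit 10) j)
noncomputable def dM_2 (j z1 z2 u : ℕ) : Bool :=
  Bool.rec (motive := fun _ => Bool) (dM_0 j z1 z2 u) (dM_1 j z1 z2 u) (Nat.ble (nat_lit 5) j)
noncomputable def chkM (u : ℕ) : Bool :=
  Bool.rec (motive := fun _ => Bool) (band (Nat.ble (Nat.succ (Nat.mod (MG u) M)) u) (dM_2 (Nat.land (MR u) (nat_lit 31)) (Nat.land (Nat.shiftRight (MR u) (nat_lit 5)) (nat_lit 63)) (Nat.shiftRight (MR u) (nat_lit 11)) u)) true (Nat.ble A (MG u))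
noncomputable def chkN (u : ℕ) : Bool :=
  band (chk_b (Nat.land (Nat.shiftRight (RS u) (nat_lit 0)) (nat_lit 15)) u) (band (chk_bi (Nat.land (Nat.shiftRight (RS u) (nat_lit 4)) (nat_lit 15)) u) (band (chk_d (Nat.land (Nat.shiftRight (RS u) (nat_lit 8)) (nat_lit 15)) u) (band (chk_di (Nat.land (Nat.shiftRight (RS u) (nat_lit 12)) (nat_lit 15)) u) (band (chk_e (Nat.land (Nat.shiftRight (RS u) (nat_lit 16)) (nat_lit 15)) u) (band (chk_ei (Nat.land (Nat.shiftRight (RS u) (nat_lit 20)) (nat_lit 15)) u) (band (chk_f (Nat.land (Nat.shiftRight (RS u) (nat_lit 24)) (nat_lit 15)) u) (band (chk_fi (Nat.land (Nat.shiftRight (RS u) (nat_lit 28)) (nat_lit 15)) u) (chkM u))))))))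
noncomputable def chkP (u : ℕ) : Bool := Bool.rec (motive := fun _ => Bool) (chkN u) true (Nat.ble M u)
noncomputable def liveP (u : ℕ) : Bool := Bool.rec (motive := fun _ => Bool) (Nat.ble A (MG u)) false (Nat.ble M u)
end H35.TCM12A
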