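import Mathlib.Init
set_option autoImplicit false
set_option maxRecDepth 100000
set_option linter.all false
namespace H35.TCM12A
noncomputable def T_b_0 (i : Nat) : Nat := Nat.land (Nat.shiftRight (nat_lit 0x14e0757ffec7ffffffffffffffff807ffffff367b2fffffc037ffffe014dc190fffffc02504ce5878c028d9a5fffffe0918c00816963046070510010200240182f) (Nat.mul (nat_lit 11) (Nat.land i (nat_lit 2047)))) (nat_lit 2047)
noncomputable abbrev T_b : Nat → Nat := T_b_0
noncomputable def T_bi_0 (i : Nat) : Nat := Nat.land (Nat.shiftRight (nat_lit 0x46004ffffac912defffffffffffd9200ffff23e79ffffffff806ffe601179bffffffc60fffceb8f4f7803a71fffffca6f64260011b80480740d0150020280205e) (Nat.mul (nat_lit 11) (Nat.land i (nat_lit 2047)))) (nat_lit 2047)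
noncomputable abbrev T_bi : Nat → Nat := T_bi_0
noncomputable def T_d_0 (i : Nat) : Nat := Nat.land (Nat.shiftRight (nat_lit 0x2995fffe4aa8ae2fffffe01fffd92ffffff2567f00dffffffffffe4d091132fffffcf7c96d0f8f48f12fb57fffff8026510d9d502a04a078008c102202c3082f) (Nat.mul (nat_lit 11) (Nat.land i (nat_lit 2047)))) (nat_lit 2047)
noncomputable abbrev T_d : Nat → Nat := T_d_0
noncomputable def T_di_0 (i : Nat) : Nat := Nat.land (Nat.shiftRight (nat_lit 0x12afffbe5ea8022e07fffffffc03d8affffff23e7cffe01bfffffffe4150d161ffe7147ddabd5f8e001aeb8e5fffffb1d0040b9ac90404c07c7795a11c0300285e) (Nat.mul (nat_lit 11) (Nat.land i (nat_lit 2047)))) (nat_lit 2047)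
noncomputable abbrev T_di : Nat → Nat := T_di_0
noncomputable def T_e_0 (i : Nat) : Nat := Nat.land (Nat.shiftRight (nat_lit 0x1ac7fffffef3ffffffff00ffffffe9bffffff606defffffffffff00a36fffee3009ffcb3fff007c2bffed5c3000bff922c8b3226902b002080658160240340302f) (Nat.mul (nat_lit 11) (Nat.land i (nat_lit 2047)))) (nat_lit 2047)
noncomputable abbrev T_e : Nat → Nat := T_e_0
noncomputable def T_ei_0 (i : Nat) : Nat := Nat.land (Nat.shiftRight (nat_lit 0x198bfffff011ffffffffffffffffe8effffffd900620a637fffffffffffffeb4ffe0137cfffd7800fffedd125ffc014fe9efab3268f704e0040d8170260380385e) (Nat.mul (nat_lit 11) (Nat.land i (nat_lit 2047)))) (nat_lit 2047)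
noncomputable abbrev T_ei : Nat → Nat := T_ei_0
noncomputable def T_f_0 (i : Nat) : Nat := Nat.land (Nat.shiftRight (nat_lit 0x10e175fffedbffc03fffffffffffd9cffe01b31674fffffffffffffef94023e4fffffdc4fffcefbda04159005fffff8bf0d306f0482c0500843181802800004001) (Nat.mul (nat_lit 11) (Nat.land i (nat_lit 2047)))) (nat_lit 2047)
noncomputable abbrev T_f : Nat → Nat := T_f_0
noncomputable def T_fi_0 (i : Nat) : Nat := Nat.land (Nat.shiftRight (nat_lit 0x119dde808d5cc76dd007ffffffffdaffffffc03676fffffffffffffea37ff804ffffffaa003d2384a2192a8e1fffffb63130f1a110010520884901913203c00002) (Nat.mul (nat_lit 11) (Nat.land i (nat_lit 2047)))) (nat_lit 2047)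
noncomputable abbrev T_fi : Nat → Nat := T_fi_0
noncomputable def P_0 (i : Nat) : Nat := Nat.land (Nat.shiftRight (nat_lit 0xa390868482777675737271706766646362616055514746454441363534323027252423222120161514131110070600) (Nat.mul (nat_lit 8) (Nat.land i (nat_lit 4095)))) (nat_lit 255)
noncomputable abbrev P : Nat → Nat := P_0
noncomputable def MG_0 (i : Nat) : Nat := Nat.land (Nat.shiftRight (nat_lit 0x1fff18448fff5df2f4f9c355a2adfffac9867fffffc256d70b617aaf94695fffbeb61fffdf2fffffef37fffff28668ffffffffffffffffffffffffffffffffffff) (Nat.mul (nat_lit 11) (Nat.land i (nat_lit 2047)))) (nat_lit 2047)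
noncomputable abbrev MG : Nat → Nat := MG_0
noncomputable def RS_0 (i : Nat) : Nat := Nat.land (Nat.shiftRight (nat_lit 0x133a0202b600002a0000a000a0290c051000367092000060000000000002000000000200000030003440133100000020020000000400133434201339000002000000300000000001000000200002000040089001020000420350050800020000002080008007760100006507345213343020133410003b024030002332761a03000200000020000070005243156334036333205110050420014141052112211021212110131002122111091151110120221121100111281021040706) (Nat.mul (nat_lit 32) (Nat.land i (nat_lit 1023)))) (nat_lit 4294967295)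
noncomputable abbrev RS : Nat → Nat := RS_0
noncomputable def MR_0 (i : Nat) : Nat := Nat.land (Nat.shiftRight (nat_lit 0xc8bc58e0003b2401b414c03afb20eca8000ec8f2220000000c882ac0c89322301a5be194080008f06368000006700000008f0000000000460114000000000000000000000000000000000000000000000) (Nat.mul (nat_lit 14) (Nat.land i (nat_lit 2047)))) (nat_lit 16383)
noncomputable abbrev MR : Nat → Nat := MR_0
/-- number of nodes -/
abbrev M : Nat := 47
/-- absent threshold -/
abbrev A : Nat := 2047
end H35.TCM12A
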